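import Groth.Prelude.Def_W4c5qllcourbesmultMultCrv
import Mathlib

/-! Modules over `R[X]/(X^n)`: coefficients and the Frobenius form. -/

set_option autoImplicit false

noncomputable section

namespace MultCrvLib

open MultCrv Polynomial

universe u v

variable {R : Type u} [CommRing R] {n : ℕ}

theorem z_pow_self : z R n ^ n = 0 := by
  rw [z, ← map_pow, Ideal.Quotient.eq_zero_iff_mem]
  exact Ideal.mem_span_singleton_self _

theorem z_pow_eq_zero {k : ℕ} (hk : n ≤ k) : z R n ^ k = 0 := by
  obtain ⟨c, rfl⟩ := Nat.exists_eq_add_of_le hk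
  rw [pow_add, z_pow_self, zero_mul]

variable (R n) in
/-- The coefficient of `z^j`. -/
def coef (j : Fin n) : Rn R n →ₗ[R] R :=
  (Submodule.liftQ ((Ideal.span {(X : R[X]) ^ n}).restrictScalars R) (Polynomial.lcoeff R j) fun f hf => by
    rw [Submodule.restrictScalars_mem, Ideal.mem_span_singleton] at hf
    rw [LinearMap.mem_ker, Polynomial.lcoeff_apply]
    exact (Polynomial.X_pow_dvd_iff.1 hf) j j.2).comp
      (Submodule.Quotient.restrictScalarsEquiv R (Ideal.span {(X : R[X]) ^ n})).symm.toLinearMap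

theorem coef_mk (j : Fin n) (f : R[X]) : coef R n j (Ideal.Quotient.mk _ f) = f.coeff j := rfl

theorem coef_ext {a b : Rn R n} (h : ∀ j, coef R n j a = coef R n j b) : a = b := by
  obtain ⟨f, rfl⟩ := Ideal.Quotient.mk_surjective a
  obtain ⟨g, rfl⟩ := Ideal.Quotient.mk_surjective b
  rw [Ideal.Quotient.mk_eq_mk_iff_sub_mem, Ideal.mem_span_singleton, Polynomial.X_pow_dvd_iff]
  intro d hd
  rw [Polynomial.coeff_sub, sub_eq_zero]
  exact h ⟨d, hd⟩

theorem coef_z_pow (j : Fin n) (k : ℕ) : coef R n j (z R n ^ k) = if (j : ℕ) = k then 1 else 0 := by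
  rw [z, ← map_pow, coef_mk, Polynomial.coeff_X_pow]

theorem coef_z_mul (j : Fin n) (a : Rn R n) :
    coef R n j (z R n * a) = if h : (j : ℕ) = 0 then 0 else coef R n ⟨j - 1, by have := j.2; omega⟩ a := by
  obtain ⟨f, rfl⟩ := Ideal.Quotient.mk_surjective a
  rw [z, ← map_mul, coef_mk]
  split_ifs with h
  · rw [h, Polynomial.coeff_X_mul_zero]
  · rw [coef_mk]
    exact (congrArg (X * f).coeff (show (j : ℕ) = (j : ℕ) - 1 + 1 by omega)).trans (Polynomial.coeff_X_mul f _)

theorem coef_z_pow_mul (j : Fin n) (k : ℕ) (a : Rn R n) :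
    coef R n j (z R n ^ k * a) = if h : k ≤ (j : ℕ) then coef R n ⟨j - k, by have := j.2; omega⟩ a else 0 := by
  obtain ⟨f, rfl⟩ := Ideal.Quotient.mk_surjective a
  rw [z, ← map_pow, ← map_mul, coef_mk, Polynomial.coeff_X_pow_mul']
  split_ifs with h <;> rfl

theorem eq_sum_coef (a : Rn R n) : a = ∑ j : Fin n, coef R n j a • z R n ^ (j : ℕ) := by
  refine coef_ext fun i => ?_
  simp only [map_sum, map_smul, coef_z_pow, smul_eq_mul, mul_ite, mul_one, mul_zero]
  rw [Finset.sum_eq_single i (fun j _ hj => if_neg fun h => hj (Fin.ext h.symm)) (fun h => absurd (Finset.mem_univ i) h),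
    if_pos rfl]

variable (R n) in
/-- The coefficients as coordinates. -/
def coefEquiv : Rn R n ≃ₗ[R] (Fin n → R) :=
  LinearEquiv.ofBijective (LinearMap.pi (coef R n)) ⟨fun a b h => coef_ext fun j => congrFun h j, fun c =>
    ⟨∑ j : Fin n, c j • z R n ^ (j : ℕ), funext fun i => by
      simp only [LinearMap.pi_apply, map_sum, map_smul, coef_z_pow, smul_eq_mul, mul_ite, mul_one, mul_zero]
      rw [Finset.sum_eq_single i (fun j _ hj => if_neg fun h => hj (Fin.ext h.symm))
        (fun h => absurd (Finset.mem_univ i) h), if_pos rfl]⟩⟩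

instance : Module.Finite R (Rn R n) := Module.Finite.equiv (coefEquiv R n).symm
instance : Module.Free R (Rn R n) := Module.Free.of_equiv (coefEquiv R n).symm

instance [IsNoetherianRing R] : IsNoetherianRing (Rn R n) := by infer_instance

theorem z_pow_mul_eq_zero_iff {a : ℕ} (ha : a ≤ n) (x : Rn R n) :
    z R n ^ a * x = 0 ↔ x ∈ Ideal.span {z R n ^ (n - a)} := by
  constructor
  · intro h
    have h1 : ∀ j : Fin n, (j : ℕ) < n - a → coef R n j x = 0 := fun j hj => by
      have h2 := congrArg (coef R n ⟨j + a, by omega⟩) h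
      rw [coef_z_pow_mul, dif_pos (Nat.le_add_left _ _), map_zero] at h2
      rwa [show (⟨(j : ℕ) + a - a, by omega⟩ : Fin n) = j from Fin.ext (Nat.add_sub_cancel _ _)] at h2
    rw [eq_sum_coef x]
    refine Submodule.sum_mem _ fun j _ => ?_
    by_cases hj : (j : ℕ) < n - a
    · rw [h1 j hj, zero_smul]; exact zero_mem _
    · rw [show (j : ℕ) = (n - a) + ((j : ℕ) - (n - a)) by omega, pow_add]
      rw [Algebra.smul_def (A := Rn R n)]
      exact Ideal.mul_mem_left _ _ (Ideal.mul_mem_right _ _ (Ideal.mem_span_singleton_self _))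
  · intro h
    obtain ⟨c, rfl⟩ := Ideal.mem_span_singleton'.1 h
    rw [mul_left_comm, ← pow_add, Nat.add_sub_cancel' ha, z_pow_self, mul_zero]

section modules

variable {M : Type v} [AddCommGroup M] [Module (Rn R n) M] [Module R M] [IsScalarTower R (Rn R n) M]

theorem finite_R [Module.Finite (Rn R n) M] : Module.Finite R M := Module.Finite.trans (Rn R n) M

theorem z_pow_smul_comm (k : ℕ) (r : R) (m : M) : z R n ^ k • (r • m) = r • (z R n ^ k • m) :=
  smul_algebra_smul_comm r _ m

variable (n M) in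
/-- `z^k` as an `R`-linear endomorphism. -/
def zpowR (k : ℕ) : M →ₗ[R] M := ((z R n ^ k) • (LinearMap.id : M →ₗ[Rn R n] M)).restrictScalars R

theorem zpowR_apply (k : ℕ) (m : M) : zpowR (R := R) n M k m = z R n ^ k • m := rfl

/-- An `R`-linear map commuting with `z` is linear over `R[X]/(X^n)`. -/
def ofCommZ {N : Type*} [AddCommGroup N] [Module (Rn R n) N] [Module R N] [IsScalarTower R (Rn R n) N]
    (f : M →ₗ[R] N) (hf : ∀ m, f (z R n • m) = z R n • f m) : M →ₗ[Rn R n] N where
  toFun := f
  map_add' := f.map_add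
  map_smul' a m := by
    obtain ⟨g, rfl⟩ := Ideal.Quotient.mk_surjective a
    induction g using Polynomial.induction_on generalizing m with
    | C r =>
      rw [show Ideal.Quotient.mk (Ideal.span {(X : R[X]) ^ n}) (C r) = algebraMap R (Rn R n) r from rfl]
      simp
    | add p q hp hq => simp only [map_add, add_smul, hp, hq, RingHom.id_apply]
    | monomial k r ih =>
      rw [RingHom.id_apply, pow_succ, ← mul_assoc, map_mul, mul_smul, mul_smul, ih, RingHom.id_apply, ← hf]

theorem ofCommZ_apply {N : Type*} [AddCommGroup N] [Module (Rn R n) N] [Module R N] [IsScalarTower R (Rn R n) N]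
    (f : M →ₗ[R] N) (hf : ∀ m, f (z R n • m) = z R n • f m) (m : M) : ofCommZ f hf m = f m := rfl

/-- The module map attached to a functional: `m ↦ Σ_j λ(z^(n-1-j) m) z^j`. -/
def toDualRn (l : M →ₗ[R] R) : M →ₗ[Rn R n] Rn R n :=
  ofCommZ (∑ j : Fin n, (l ∘ₗ zpowR n M (n - 1 - j)).smulRight (z R n ^ (j : ℕ))) fun m => by
    refine coef_ext fun i => ?_
    have h : ∀ (m : M) (i : Fin n), coef R n i
        ((∑ j : Fin n, (l ∘ₗ zpowR n M (n - 1 - j)).smulRight (z R n ^ (j : ℕ))) m) = l (z R n ^ (n - 1 - i) • m) := by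
      intro m i
      simp only [LinearMap.coe_sum, Finset.sum_apply, map_sum, LinearMap.smulRight_apply, LinearMap.comp_apply,
        zpowR_apply, map_smul, coef_z_pow, smul_eq_mul, mul_ite, mul_one, mul_zero]
      rw [Finset.sum_eq_single i (fun j _ hj => if_neg fun h => hj (Fin.ext h.symm))
        (fun h => absurd (Finset.mem_univ i) h), if_pos rfl]
    rw [smul_eq_mul, coef_z_mul, h, smul_smul, ← pow_succ]
    have := i.2
    split_ifs with h0
    · rw [h0, show n - 1 - 0 + 1 = n by omega, z_pow_self]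
      exact (congrArg l (zero_smul (Rn R n) m)).trans l.map_zero
    · rw [h]
      congr 3
      show n - 1 - (i : ℕ) + 1 = n - 1 - ((i : ℕ) - 1)
      omega

theorem coef_toDualRn (l : M →ₗ[R] R) (m : M) (i : Fin n) :
    coef R n i (toDualRn (n := n) l m) = l (z R n ^ (n - 1 - i) • m) := by
  rw [toDualRn, ofCommZ_apply]
  simp only [LinearMap.coe_sum, Finset.sum_apply, map_sum, LinearMap.smulRight_apply, LinearMap.comp_apply,
    zpowR_apply, map_smul, coef_z_pow, smul_eq_mul, mul_ite, mul_one, mul_zero]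
  rw [Finset.sum_eq_single i (fun j _ hj => if_neg fun h => hj (Fin.ext h.symm))
    (fun h => absurd (Finset.mem_univ i) h), if_pos rfl]

variable (R n) in
/-- The top coefficient. -/
def top (hn : 1 ≤ n) : Rn R n →ₗ[R] R := coef R n ⟨n - 1, by omega⟩

variable (M) in
/-- Frobenius duality. -/
def dualEquiv (hn : 1 ≤ n) : (M →ₗ[Rn R n] Rn R n) ≃+ (M →ₗ[R] R) where
  toFun φ := top R n hn ∘ₗ φ.restrictScalars R
  invFun := toDualRn
  map_add' φ ψ := LinearMap.ext fun m => by simp
  left_inv φ := LinearMap.ext fun m => coef_ext fun i => by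
    rw [coef_toDualRn]
    show top R n hn (φ (z R n ^ (n - 1 - i) • m)) = _
    rw [map_smul, smul_eq_mul, top, coef_z_pow_mul, dif_pos (show n - 1 - (i : ℕ) ≤ n - 1 by omega)]
    congr 2
    exact Fin.ext (by show n - 1 - (n - 1 - (i : ℕ)) = i; have := i.2; omega)
  right_inv l := LinearMap.ext fun m => by
    show coef R n _ (toDualRn (n := n) l m) = l m
    rw [coef_toDualRn, Nat.sub_self, pow_zero, one_smul]

theorem dualEquiv_apply (hn : 1 ≤ n) (φ : M →ₗ[Rn R n] Rn R n) (m : M) :
    dualEquiv M hn φ m = top R n hn (φ m) := rfl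

theorem dualEquiv_smul (hn : 1 ≤ n) (r : R) (φ : M →ₗ[Rn R n] Rn R n) :
    dualEquiv M hn (algebraMap R (Rn R n) r • φ) = r • dualEquiv M hn φ := LinearMap.ext fun m => by
  simp only [dualEquiv_apply, LinearMap.smul_apply, algebraMap_smul, map_smul]

/-- Every element of a module is reached by the first canonical filtration up to powers of `z`. -/
theorem le_range_of_le_range_add_z {N : Type*} [AddCommGroup N] [Module (Rn R n) N] (S : Submodule (Rn R n) N)
    (h : ∀ v : N, ∃ s ∈ S, ∃ w, v = s + z R n • w) (v : N) : v ∈ S := by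
  have key : ∀ k : ℕ, ∀ v : N, ∃ s ∈ S, ∃ w, v = s + z R n ^ k • w := by
    intro k
    induction k with
    | zero => exact fun v => ⟨0, zero_mem _, v, by simp⟩
    | succ k ih =>
      intro v
      obtain ⟨s, hs, w, rfl⟩ := ih v
      obtain ⟨t, ht, w', rfl⟩ := h w
      exact ⟨s + z R n ^ k • t, add_mem hs (Submodule.smul_mem _ _ ht), w', by
        rw [smul_add, ← add_assoc, smul_smul, ← pow_succ]⟩
  obtain ⟨s, hs, w, rfl⟩ := key n v
  rw [z_pow_self]
  exact (zero_smul (Rn R n) w).symm ▸ (add_zero s).symm ▸ hs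

end modules

end MultCrvLib
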