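import Groth.Agent.MultCrvLib.Modules
import Mathlib.Algebra.Category.ModuleCat.Ext.DimensionShifting

/-! Ext groups over `R[X]/(X^n)`. -/

set_option autoImplicit false

noncomputable section

namespace MultCrvLib

open MultCrv CategoryTheory Abelian

universe u

variable {R : Type u} [CommRing R] {n : ℕ}

theorem projective_of (P : Type u) [AddCommGroup P] [Module (Rn R n) P] [Module.Projective (Rn R n) P] :
    Projective (ModuleCat.of (Rn R n) P) :=
  ModuleCat.projective_of_categoryTheory_projective _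

/-- A free presentation of a finite module. -/
structure Pres (M : Type u) [AddCommGroup M] [Module (Rn R n) M] where
  /-- number of generators -/
  r : ℕ
  /-- the surjection -/
  π : (Fin r → Rn R n) →ₗ[Rn R n] M
  surj : Function.Surjective π

theorem exists_pres (M : Type u) [AddCommGroup M] [Module (Rn R n) M] [Module.Finite (Rn R n) M] :
    Nonempty (Pres (R := R) (n := n) M) := by
  obtain ⟨r, π, hπ⟩ := Module.Finite.exists_fin' (Rn R n) M
  exact ⟨⟨r, π, hπ⟩⟩

variable {M : Type u} [AddCommGroup M] [Module (Rn R n) M] (P : Pres (R := R) (n := n) M)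

theorem ext_X₂_eq_zero (Y : ModuleCat.{u} (Rn R n)) (i : ℕ)
    (x : Ext (P.π.shortComplexKer).X₂ Y (i + 1)) : x = 0 :=
  haveI : Projective (P.π.shortComplexKer).X₂ := projective_of (Fin P.r → Rn R n)
  Ext.eq_zero_of_projective x

theorem exists_extClass_comp (Y : ModuleCat.{u} (Rn R n)) (i : ℕ) (x : Ext (ModuleCat.of (Rn R n) M) Y (1 + i)) :
    ∃ y : Ext (ModuleCat.of (Rn R n) (LinearMap.ker P.π)) Y i,
      (LinearMap.shortExact_shortComplexKer P.surj).extClass.comp y rfl = x :=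
  haveI : Projective (P.π.shortComplexKer).X₂ := projective_of (Fin P.r → Rn R n)
  Ext.contravariant_sequence_exact₃ (LinearMap.shortExact_shortComplexKer P.surj) Y x
    (by
      obtain ⟨j, hj⟩ : ∃ j, 1 + i = j + 1 := ⟨i, by omega⟩
      revert x
      rw [hj]
      exact fun x => Ext.eq_zero_of_projective _) rfl

theorem subsingleton_ext_succ (Y : ModuleCat.{u} (Rn R n)) (i : ℕ)
    (h : Subsingleton (Ext (ModuleCat.of (Rn R n) (LinearMap.ker P.π)) Y i)) :
    Subsingleton (Ext (ModuleCat.of (Rn R n) M) Y (1 + i)) := by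
  refine subsingleton_of_forall_eq 0 fun x => ?_
  obtain ⟨y, rfl⟩ := exists_extClass_comp P Y i x
  rw [Subsingleton.elim y 0, Ext.comp_zero]

theorem smul_ext_succ (Y : ModuleCat.{u} (Rn R n)) (i : ℕ) (c : Rn R n)
    (h : ∀ y : Ext (ModuleCat.of (Rn R n) (LinearMap.ker P.π)) Y i, c • y = 0)
    (x : Ext (ModuleCat.of (Rn R n) M) Y (1 + i)) : c • x = 0 := by
  obtain ⟨y, rfl⟩ := exists_extClass_comp P Y i x
  rw [← Ext.comp_smul, h y, Ext.comp_zero]

theorem subsingleton_ext_one_of_surjective {Y : Type u} [AddCommGroup Y] [Module (Rn R n) Y]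
    (h : ∀ φ : LinearMap.ker P.π →ₗ[Rn R n] Y, ∃ ψ : (Fin P.r → Rn R n) →ₗ[Rn R n] Y,
      ψ ∘ₗ (LinearMap.ker P.π).subtype = φ) :
    Subsingleton (Ext (ModuleCat.of (Rn R n) M) (ModuleCat.of (Rn R n) Y) 1) := by
  refine subsingleton_of_forall_eq 0 fun x => ?_
  obtain ⟨y, rfl⟩ := exists_extClass_comp P _ 0 x
  obtain ⟨f, rfl⟩ := Ext.addEquiv₀.symm.surjective y
  obtain ⟨ψ, hψ⟩ := h f.hom
  have hf : f = (P.π.shortComplexKer).f ≫ ModuleCat.ofHom ψ := ModuleCat.hom_ext hψ.symm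
  rw [hf]
  simp only [Ext.addEquiv₀_symm_apply]
  rw [← Ext.mk₀_comp_mk₀]
  exact (LinearMap.shortExact_shortComplexKer P.surj).extClass_comp_assoc _

theorem surjective_of_subsingleton_ext_one {Y : Type u} [AddCommGroup Y] [Module (Rn R n) Y]
    (h : Subsingleton (Ext (ModuleCat.of (Rn R n) M) (ModuleCat.of (Rn R n) Y) 1))
    (φ : LinearMap.ker P.π →ₗ[Rn R n] Y) :
    ∃ ψ : (Fin P.r → Rn R n) →ₗ[Rn R n] Y, ψ ∘ₗ (LinearMap.ker P.π).subtype = φ := by
  obtain ⟨g, hg⟩ := Ext.contravariant_sequence_exact₁ (LinearMap.shortExact_shortComplexKer P.surj) _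
    (Ext.mk₀ (ModuleCat.ofHom φ : (P.π.shortComplexKer).X₁ ⟶ ModuleCat.of (Rn R n) Y)) (rfl : 1 + 0 = 1)
    (Subsingleton.elim (α := Ext (ModuleCat.of (Rn R n) M) (ModuleCat.of (Rn R n) Y) 1) _ _)
  obtain ⟨g', rfl⟩ := Ext.addEquiv₀.symm.surjective g
  refine ⟨g'.hom, ?_⟩
  simp only [Ext.addEquiv₀_symm_apply, Ext.mk₀_comp_mk₀] at hg
  exact congrArg ModuleCat.Hom.hom (Ext.homEquiv₀.symm.injective hg)

variable [IsDomain R] [IsPrincipalIdealRing R]

theorem isTorsionFree_pi (r : ℕ) : Module.IsTorsionFree R (Fin r → Rn R n) := inferInstance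

theorem tf_ker {r : ℕ} (π : (Fin r → Rn R n) →ₗ[Rn R n] M) : Module.IsTorsionFree R (LinearMap.ker π) :=
  Function.Injective.moduleIsTorsionFree _ Subtype.val_injective fun _ _ => rfl

theorem finite_ker {r : ℕ} (π : (Fin r → Rn R n) →ₗ[Rn R n] M) : Module.Finite (Rn R n) (LinearMap.ker π) :=
  Module.Finite.iff_fg.2 (IsNoetherian.noetherian _)

theorem subsingleton_ext_self_of_tf (hn : 1 ≤ n) : ∀ (i : ℕ) (M : Type u) [AddCommGroup M] [Module (Rn R n) M]
    [Module R M] [IsScalarTower R (Rn R n) M] [Module.Finite (Rn R n) M] [Module.IsTorsionFree R M],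
    Subsingleton (Ext (ModuleCat.of (Rn R n) M) (ModuleCat.of (Rn R n) (Rn R n)) (1 + i)) := by
  intro i
  induction i with
  | zero =>
    intro M _ _ _ _ _ _
    obtain ⟨P⟩ := exists_pres (R := R) (n := n) M
    exact subsingleton_ext_one_of_surjective P fun φ =>
      dualMap_surjective hn (LinearMap.ker P.π).subtype P.π (LinearMap.ker P.π).injective_subtype
        (LinearMap.exact_subtype_ker_map P.π) P.surj φ
  | succ i ih =>
    intro M _ _ _ _ _ _
    obtain ⟨P⟩ := exists_pres (R := R) (n := n) M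
    haveI := tf_ker P.π
    haveI := finite_ker P.π
    exact subsingleton_ext_succ P _ (i + 1) (by rw [Nat.add_comm i 1]; exact ih (LinearMap.ker P.π))

theorem subsingleton_ext_self_of_two_le (hn : 1 ≤ n) (M : Type u) [AddCommGroup M] [Module (Rn R n) M]
    [Module.Finite (Rn R n) M] (i : ℕ) (hi : 2 ≤ i) :
    Subsingleton (Ext (ModuleCat.of (Rn R n) M) (ModuleCat.of (Rn R n) (Rn R n)) i) := by
  obtain ⟨j, rfl⟩ : ∃ j, i = 1 + (1 + j) := ⟨i - 2, by omega⟩
  obtain ⟨P⟩ := exists_pres (R := R) (n := n) M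
  haveI := tf_ker P.π
  haveI := finite_ker P.π
  exact subsingleton_ext_succ P _ (1 + j) (subsingleton_ext_self_of_tf hn j (LinearMap.ker P.π))

theorem tf_of_subsingleton_ext_one (hn : 1 ≤ n) (M : Type u) [AddCommGroup M] [Module (Rn R n) M] [Module R M]
    [IsScalarTower R (Rn R n) M] [Module.Finite (Rn R n) M]
    (h : Subsingleton (Ext (ModuleCat.of (Rn R n) M) (ModuleCat.of (Rn R n) (Rn R n)) 1)) :
    Module.IsTorsionFree R M := by
  obtain ⟨P⟩ := exists_pres (R := R) (n := n) M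
  haveI := tf_ker P.π
  haveI := finite_ker P.π
  haveI : Module.Free R (LinearMap.ker P.π) := free_of_tf (R := R) (n := n)
  haveI : Module.Finite R (LinearMap.ker P.π) := finite_R (R := R) (n := n)
  -- an `R`-linear retraction
  let b := Module.Free.chooseBasis R (LinearMap.ker P.π)
  have hext : ∀ j, ∃ l : (Fin P.r → Rn R n) →ₗ[R] R, ∀ x : LinearMap.ker P.π, l (x : Fin P.r → Rn R n) = b.coord j x := by
    intro j
    obtain ⟨ψ, hψ⟩ := surjective_of_subsingleton_ext_one P h ((dualEquiv (LinearMap.ker P.π) hn).symm (b.coord j))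
    refine ⟨dualEquiv _ hn ψ, fun x => ?_⟩
    rw [dualEquiv_apply]
    have h1 := LinearMap.congr_fun hψ x
    rw [LinearMap.comp_apply, Submodule.subtype_apply] at h1
    rw [h1, ← dualEquiv_apply, AddEquiv.apply_symm_apply]
  choose l hl using hext
  refine (Module.isTorsionFree_iff_smul_eq_zero).2 fun r m hrm => (em (r = 0)).imp_right fun hr => ?_
  obtain ⟨f, rfl⟩ := P.surj m
  have hmem : r • f ∈ LinearMap.ker P.π := by
    rw [LinearMap.mem_ker, LinearMap.map_smul_of_tower, hrm]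
  let ρ : LinearMap.ker P.π := ∑ j, l j f • b j
  have hρ : r • ρ = ⟨r • f, hmem⟩ := by
    conv_rhs => rw [← b.sum_repr ⟨r • f, hmem⟩]
    rw [Finset.smul_sum]
    refine Finset.sum_congr rfl fun j _ => ?_
    rw [smul_smul]
    congr 1
    rw [← Module.Basis.coord_apply, ← hl, map_smul, smul_eq_mul]
  have h1 : r • ((ρ : Fin P.r → Rn R n) - f) = 0 := by
    rw [smul_sub, sub_eq_zero]; exact congrArg Subtype.val hρ
  have h2 := sub_eq_zero.1 ((smul_eq_zero_iff_right hr).1 h1)
  exact h2 ▸ ρ.2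

theorem exists_factor (M : Type u) [AddCommGroup M] [Module (Rn R n) M] [Module R M]
    [IsScalarTower R (Rn R n) M] [Module.Finite (Rn R n) M] [Module.IsTorsionFree R M] :
    ∃ (ι : Type u) (_ : Fintype ι) (α : M →ₗ[Rn R n] (ι → Rn R n)) (β : (ι → Rn R n) →ₗ[Rn R n] M),
      β ∘ₗ α = z R n ^ (n - 1) • LinearMap.id := by
  let N := LinearMap.range (zpowR (R := R) n M (n - 1))
  haveI : Module.Finite R M := finite_R (R := R) (n := n) (M := M)
  haveI : Module.IsTorsionFree R N := Function.Injective.moduleIsTorsionFree _ Subtype.val_injective fun _ _ => rfl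
  haveI : Module.Free R N := Module.free_of_finite_type_torsion_free'
  let b := Module.Free.chooseBasis R N
  have hb : ∀ j, ∃ m : M, z R n ^ (n - 1) • m = (b j : M) := fun j => (b j).2
  choose m hm using hb
  let l : ∀ _j, M →ₗ[R] R := fun j => b.coord j ∘ₗ (zpowR (R := R) n M (n - 1)).rangeRestrict
  let α : M →ₗ[Rn R n] (Module.Free.ChooseBasisIndex R N → Rn R n) := LinearMap.pi fun j => toDualRn (l j)
  let β : (Module.Free.ChooseBasisIndex R N → Rn R n) →ₗ[Rn R n] M := Fintype.linearCombination (Rn R n) m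
  have key : β ∘ₗ α = z R n ^ (n - 1) • LinearMap.id := by
    refine LinearMap.ext fun w => ?_
    have hco : ∀ j, toDualRn (l j) w = (l j w) • z R n ^ (n - 1) := fun j => coef_ext fun k => by
      rw [coef_toDualRn, map_smul (coef R n k), coef_z_pow]
      split_ifs with hk
      · rw [hk, Nat.sub_self, pow_zero, show (1 : Rn R n) • w = w from one_smul (Rn R n) w, smul_eq_mul, mul_one]
      · rw [smul_zero]
        show b.coord j ⟨z R n ^ (n - 1) • (z R n ^ (n - 1 - (k : ℕ)) • w), _⟩ = 0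
        have h0 : z R n ^ (n - 1) • (z R n ^ (n - 1 - (k : ℕ)) • w) = 0 := by
          rw [smul_smul, ← pow_add]
          exact zns_eq_zero (by have := k.2; omega) w
        simp only [h0]
        exact map_zero (b.coord j)
    show β (α w) = z R n ^ (n - 1) • w
    simp only [β, α, Fintype.linearCombination_apply, LinearMap.pi_apply, hco]
    have h1 : ∀ j, ((l j w) • z R n ^ (n - 1)) • m j = (l j w • (b j : N) : N) := fun j => by
      rw [Submodule.coe_smul, ← hm j, smul_assoc]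
    simp only [h1]
    rw [← Submodule.coe_sum]
    show ((∑ j, b.repr ((zpowR (R := R) n M (n - 1)).rangeRestrict w) j • b j : N) : M) = _
    rw [b.sum_repr]
    rfl
  exact ⟨_, inferInstance, α, β, key⟩

theorem smul_ext_eq_zero_of_factor {M P : Type u} [AddCommGroup M] [Module (Rn R n) M] [AddCommGroup P]
    [Module (Rn R n) P] [Module.Projective (Rn R n) P] (c : Rn R n) (α : M →ₗ[Rn R n] P) (β : P →ₗ[Rn R n] M)
    (key : β ∘ₗ α = c • LinearMap.id) (Y : ModuleCat.{u} (Rn R n)) (i : ℕ)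
    (x : Ext (ModuleCat.of (Rn R n) M) Y (i + 1)) : c • x = 0 := by
  have hid : c • 𝟙 (ModuleCat.of (Rn R n) M) = ModuleCat.ofHom α ≫ ModuleCat.ofHom β :=
    ModuleCat.hom_ext (by
      simp only [ModuleCat.hom_smul, ModuleCat.hom_id, ModuleCat.hom_comp, ModuleCat.hom_ofHom]
      exact key.symm)
  haveI := projective_of (R := R) (n := n) P
  have h0 : (Ext.mk₀ (ModuleCat.ofHom β)).comp x (zero_add (i + 1)) = 0 := Ext.eq_zero_of_projective _
  have h1 : Ext.mk₀ (c • 𝟙 (ModuleCat.of (Rn R n) M)) = c • Ext.mk₀ (𝟙 (ModuleCat.of (Rn R n) M)) :=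
    Ext.mk₀_smul (C := ModuleCat.{u} (Rn R n)) c _
  calc c • x = (c • Ext.mk₀ (𝟙 (ModuleCat.of (Rn R n) M))).comp x (zero_add (i + 1)) := by
        rw [Ext.smul_comp, Ext.mk₀_id_comp]
    _ = (Ext.mk₀ (c • 𝟙 (ModuleCat.of (Rn R n) M))).comp x (zero_add (i + 1)) := by rw [h1]
    _ = 0 := by rw [hid, ← Ext.mk₀_comp_mk₀, Ext.comp_assoc_of_second_deg_zero, h0, Ext.comp_zero]

theorem smul_ext_eq_zero_of_tf (_hn : 1 ≤ n) (M : Type u) [AddCommGroup M] [Module (Rn R n) M] [Module R M]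
    [IsScalarTower R (Rn R n) M] [Module.Finite (Rn R n) M] [Module.IsTorsionFree R M] (Y : ModuleCat.{u} (Rn R n))
    (i : ℕ) (x : Ext (ModuleCat.of (Rn R n) M) Y (i + 1)) : (z R n ^ (n - 1)) • x = 0 := by
  obtain ⟨ι, hι, α, β, key⟩ := exists_factor (R := R) (n := n) M
  exact smul_ext_eq_zero_of_factor _ α β key Y i x

theorem smul_ext_eq_zero_of_two_le (hn : 1 ≤ n) (M : Type u) [AddCommGroup M] [Module (Rn R n) M]
    [Module.Finite (Rn R n) M] (Y : ModuleCat.{u} (Rn R n)) (i : ℕ) (hi : 2 ≤ i)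
    (x : Ext (ModuleCat.of (Rn R n) M) Y i) : (z R n ^ (n - 1)) • x = 0 := by
  obtain ⟨j, rfl⟩ : ∃ j, i = 1 + (j + 1) := ⟨i - 2, by omega⟩
  obtain ⟨P⟩ := exists_pres (R := R) (n := n) M
  haveI := tf_ker P.π
  haveI := finite_ker P.π
  exact smul_ext_succ P Y (j + 1) _ (smul_ext_eq_zero_of_tf hn (LinearMap.ker P.π) Y j) x

end MultCrvLib
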