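import Groth.Agent.MultCrvLib.Basic

/-! Torsion-free and reflexive modules over `R[X]/(X^n)`, `R` a discrete valuation ring. -/

set_option autoImplicit false

noncomputable section

namespace MultCrvLib

open MultCrv

universe u v w

variable {R : Type u} [CommRing R] {n : ℕ} {M : Type v} [AddCommGroup M] [Module (Rn R n) M] [Module R M]
  [IsScalarTower R (Rn R n) M]

theorem mem_filt2 {k : ℕ} {m : M} : m ∈ filt2 R n M k ↔ z R n ^ k • m = 0 := Iff.rfl

theorem mem_filt {k : ℕ} {m : M} : m ∈ filt R n M k ↔ ∃ w : M, z R n ^ k • w = m := Iff.rfl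

theorem zns_zero (m : M) : z R n ^ n • m = 0 := by
  rw [z_pow_self]; exact zero_smul (Rn R n) m

theorem zns_eq_zero {k : ℕ} (hk : n ≤ k) (m : M) : z R n ^ k • m = 0 := by
  rw [z_pow_eq_zero hk]; exact zero_smul (Rn R n) m

theorem injective_iff {N : Type w} [AddCommGroup N] [Module (Rn R n) N] (φ : M →ₗ[Rn R n] N) :
    Function.Injective φ ↔ ∀ u : M, u ∈ filt2 R n M 1 → φ u = 0 → u = 0 := by
  refine ⟨fun h u _ hu => h (hu.trans (map_zero φ).symm), fun h => (injective_iff_map_eq_zero φ).2 fun u hu => ?_⟩
  have key : ∀ k (u : M), z R n ^ k • u = 0 → φ u = 0 → u = 0 := by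
    intro k
    induction k with
    | zero =>
      intro u hu _
      rwa [pow_zero, show (1 : Rn R n) • u = u from one_smul (Rn R n) u] at hu
    | succ k ih =>
      intro u hu hφ
      have hz : z R n • u = 0 := ih (z R n • u) (by rw [smul_smul, ← pow_succ]; exact hu)
        (by rw [map_smul, hφ, smul_zero])
      exact h u (by rw [mem_filt2, pow_one]; exact hz) hφ
  exact key n u (zns_zero u) hu

theorem surjective_iff {N : Type w} [AddCommGroup N] [Module (Rn R n) N] [Module R N] [IsScalarTower R (Rn R n) N]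
    (φ : M →ₗ[Rn R n] N) :
    Function.Surjective φ ↔ ∀ v : N, ∃ u : M, v - φ u ∈ filt R n N 1 := by
  refine ⟨fun h v => ?_, fun h v => ?_⟩
  · obtain ⟨u, rfl⟩ := h v
    exact ⟨u, by rw [sub_self]; exact zero_mem _⟩
  · refine LinearMap.mem_range.1 (le_range_of_le_range_add_z (LinearMap.range φ) (fun w => ?_) v)
    obtain ⟨u, hu⟩ := h w
    obtain ⟨w', hw'⟩ := mem_filt.1 hu
    rw [pow_one] at hw'
    exact ⟨φ u, LinearMap.mem_range_self φ u, w', by rw [hw', add_sub_cancel]⟩

variable [IsDomain R] [IsPrincipalIdealRing R]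

theorem free_of_tf [Module.Finite (Rn R n) M] [Module.IsTorsionFree R M] : Module.Free R M := by
  haveI := finite_R (R := R) (n := n) (M := M)
  exact Module.free_of_finite_type_torsion_free'

theorem finite_sub [Module.Finite (Rn R n) M] (S : Submodule (Rn R n) M) : Module.Finite R S := by
  haveI := finite_R (R := R) (n := n) (M := M)
  exact Module.Finite.equiv ((Submodule.restrictScalarsEquiv R (Rn R n) M S).restrictScalars R)

theorem free_sub [Module.Finite (Rn R n) M] [Module.IsTorsionFree R M] (S : Submodule (Rn R n) M) :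
    Module.Free R S := by
  haveI := finite_sub (R := R) S
  haveI : Module.IsTorsionFree R S :=
    Function.Injective.moduleIsTorsionFree _ Subtype.val_injective fun r x => rfl
  exact Module.free_of_finite_type_torsion_free'

theorem isTorsionFree_iff_free_filt2 [Module.Finite (Rn R n) M] :
    Module.IsTorsionFree R M ↔ Module.Free R (filt2 R n M 1) := by
  constructor
  · intro h
    exact free_sub _
  · intro h
    refine (Module.isTorsionFree_iff_smul_eq_zero).2 fun r m hrm => ?_
    by_cases hr : r = 0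
    · exact Or.inl hr
    right
    have key : ∀ k (m : M), z R n ^ k • m = 0 → r • m = 0 → m = 0 := by
      intro k
      induction k with
      | zero =>
        intro m hm _
        rwa [pow_zero, show (1 : Rn R n) • m = m from one_smul (Rn R n) m] at hm
      | succ k ih =>
        intro m hm hrm
        have hz : z R n • m = 0 := ih (z R n • m) (by rw [smul_smul, ← pow_succ]; exact hm)
          (by rw [← smul_algebra_smul_comm, hrm, smul_zero])
        have h1 : r • (⟨m, show m ∈ filt2 R n M 1 by rw [mem_filt2, pow_one]; exact hz⟩ : filt2 R n M 1) = 0 :=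
          Subtype.ext hrm
        exact congrArg Subtype.val ((smul_eq_zero_iff_right hr).1 h1)
    exact key n m (zns_zero m) hrm

theorem free_G2 [Module.Finite (Rn R n) M] [Module.IsTorsionFree R M] (i : ℕ) (hi : 1 ≤ i) :
    Module.Free R (G2 R n M i) := by
  let p := Submodule.comap (filt2 R n M i).subtype (filt2 R n M (i - 1))
  let f : filt2 R n M i →ₗ[Rn R n] M := (z R n ^ (i - 1)) • (filt2 R n M i).subtype
  have hker : p = LinearMap.ker f := Submodule.ext fun x => Iff.rfl
  let g : G2 R n M i →ₗ[Rn R n] M := Submodule.liftQ p f hker.le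
  have hg : Function.Injective g := by
    rw [← LinearMap.ker_eq_bot]
    exact Submodule.ker_liftQ_eq_bot _ _ _ hker.symm.le
  haveI := finite_R (R := R) (n := n) (M := M)
  haveI : Module.Finite R (G2 R n M i) := Module.Finite.of_injective (g.restrictScalars R) hg
  haveI : Module.IsTorsionFree R (G2 R n M i) :=
    Function.Injective.moduleIsTorsionFree _ hg fun r x => map_smul (g.restrictScalars R) r x
  exact Module.free_of_finite_type_torsion_free'

theorem finrank_quot_comap [Module.Finite (Rn R n) M] {S T : Submodule (Rn R n) M} (hTS : T ≤ S) :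
    Module.finrank R (S ⧸ Submodule.comap S.subtype T) + Module.finrank R T = Module.finrank R S := by
  haveI := finite_sub (R := R) S
  have h := Submodule.finrank_quotient_add_finrank ((Submodule.comap S.subtype T).restrictScalars R) (R := R)
    (M := S)
  rw [(Submodule.Quotient.restrictScalarsEquiv R (Submodule.comap S.subtype T)).finrank_eq] at h
  rw [← h]
  congr 1
  exact (((Submodule.restrictScalarsEquiv R (Rn R n) _ _).restrictScalars R).trans
    ((Submodule.comapSubtypeEquivOfLe hTS).restrictScalars R)).finrank_eq.symm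

theorem finrank_filt_add [Module.Finite (Rn R n) M] (k : ℕ) :
    Module.finrank R (filt R n M k) + Module.finrank R (filt2 R n M k) = Module.finrank R M := by
  haveI := finite_R (R := R) (n := n) (M := M)
  have h := Submodule.finrank_quotient_add_finrank (LinearMap.ker (zpowR (R := R) n M k)) (R := R) (M := M)
  rw [(LinearMap.quotKerEquivRange (zpowR (R := R) n M k)).finrank_eq] at h
  exact h

theorem finrank_G2_succ_eq [Module.Finite (Rn R n) M] (i : ℕ) :
    Module.finrank R (G2 R n M (i + 1)) = Module.finrank R (G1 R n M i) := by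
  have h1 : filt2 R n M i ≤ filt2 R n M (i + 1) := fun m hm => by
    rw [mem_filt2] at hm ⊢
    rw [pow_succ', mul_smul, hm, smul_zero]
  have h2 : filt R n M (i + 1) ≤ filt R n M i := fun m hm => by
    obtain ⟨w, rfl⟩ := mem_filt.1 hm
    exact mem_filt.2 ⟨z R n • w, by rw [smul_smul, ← pow_succ]⟩
  have e1 := finrank_quot_comap (R := R) h1
  have e2 := finrank_quot_comap (R := R) h2
  have e3 := finrank_filt_add (R := R) (n := n) (M := M) i
  have e4 := finrank_filt_add (R := R) (n := n) (M := M) (i + 1)
  have : Module.finrank R (G2 R n M (i + 1)) + Module.finrank R (filt2 R n M i) =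
      Module.finrank R (filt2 R n M (i + 1)) := e1
  have : Module.finrank R (G1 R n M i) + Module.finrank R (filt R n M (i + 1)) =
      Module.finrank R (filt R n M i) := e2
  omega

omit [IsPrincipalIdealRing R] in
theorem quot_isTorsionFree_iff {P : Type w} [AddCommGroup P] [Module (Rn R n) P] [Module R P]
    [IsScalarTower R (Rn R n) P] (Q : Submodule (Rn R n) P) :
    Module.IsTorsionFree R (P ⧸ Q) ↔ ∀ (r : R) (x : P), r ≠ 0 → r • x ∈ Q → x ∈ Q := by
  rw [Module.isTorsionFree_iff_smul_eq_zero]
  constructor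
  · intro h r x hr hx
    have : r • (Submodule.Quotient.mk x : P ⧸ Q) = 0 := by
      rw [← Submodule.Quotient.mk_smul, Submodule.Quotient.mk_eq_zero]; exact hx
    exact (Submodule.Quotient.mk_eq_zero Q).1 ((h _ _ this).resolve_left hr)
  · intro h r x hx
    obtain ⟨x, rfl⟩ := Submodule.Quotient.mk_surjective Q x
    rw [← Submodule.Quotient.mk_smul, Submodule.Quotient.mk_eq_zero] at hx
    exact (em (r = 0)).imp_right fun hr => (Submodule.Quotient.mk_eq_zero Q).2 (h r x hr hx)

theorem free_iff_tf {P : Type w} [AddCommGroup P] [Module R P] [Module.Finite R P] :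
    Module.Free R P ↔ Module.IsTorsionFree R P :=
  ⟨fun _ => inferInstance, fun _ => Module.free_of_finite_type_torsion_free'⟩

theorem mem_range_lamG2 {i : ℕ} (u : M) (hu : u ∈ filt2 R n M (i + 1)) :
    Submodule.Quotient.mk (p := Submodule.comap (filt2 R n M (i + 1)).subtype (filt2 R n M (i + 1 - 1))) ⟨u, hu⟩ ∈
        LinearMap.range (lamG2 R n M i) ↔ ∃ w : M, z R n ^ (i + 1) • w = z R n ^ i • u := by
  constructor
  · rintro ⟨y, hy⟩
    obtain ⟨⟨w, hw⟩, rfl⟩ := Submodule.Quotient.mk_surjective _ y
    rw [lamG2, Submodule.mapQ_apply, Submodule.Quotient.eq, Submodule.mem_comap] at hy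
    change z R n • w - u ∈ filt2 R n M (i + 1 - 1) at hy
    rw [Nat.add_sub_cancel, mem_filt2, smul_sub, sub_eq_zero, smul_smul, ← pow_succ] at hy
    exact ⟨w, hy⟩
  · rintro ⟨w, hw⟩
    refine ⟨Submodule.Quotient.mk ⟨w, ?_⟩, ?_⟩
    · rw [mem_filt2, show i + 2 = (i + 1) + 1 from rfl, pow_succ', mul_smul, hw, smul_smul, ← pow_succ']
      exact hu
    · rw [lamG2, Submodule.mapQ_apply, Submodule.Quotient.eq, Submodule.mem_comap]
      show z R n • w - u ∈ filt2 R n M (i + 1 - 1)
      rw [Nat.add_sub_cancel, mem_filt2, smul_sub, sub_eq_zero, smul_smul, ← pow_succ]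
      exact hw

theorem free_G1_iff_free_Gam2 [Module.Finite (Rn R n) M] :
    (∀ i : ℕ, i < n → Module.Free R (G1 R n M i)) ↔ (∀ i : ℕ, i < n → Module.Free R (Gam2 R n M i)) := by
  haveI := finite_R (R := R) (n := n) (M := M)
  haveI : IsNoetherian (Rn R n) M := isNoetherian_of_isNoetherianRing_of_finite _ _
  have hfG : ∀ i, Module.Finite R (G1 R n M i) := fun i => by
    haveI : Module.Finite (Rn R n) (G1 R n M i) := inferInstance
    exact Module.Finite.trans (Rn R n) _
  have hfΓ : ∀ i, Module.Finite R (Gam2 R n M i) := fun i => by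
    haveI : Module.Finite (Rn R n) (Gam2 R n M i) := inferInstance
    exact Module.Finite.trans (Rn R n) _
  have hG : ∀ i, Module.Free R (G1 R n M i) ↔ ∀ (r : R) (m : M), r ≠ 0 →
      (∃ w : M, z R n ^ (i + 1) • w = z R n ^ i • (r • m)) → ∃ w : M, z R n ^ (i + 1) • w = z R n ^ i • m := by
    intro i
    haveI := hfG i
    rw [free_iff_tf (R := R), quot_isTorsionFree_iff]
    constructor
    · intro h r m hr hm
      exact mem_filt.1 (h r ⟨z R n ^ i • m, mem_filt.2 ⟨m, rfl⟩⟩ hr (mem_filt.2 (by
        obtain ⟨w, hw⟩ := hm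
        exact ⟨w, hw.trans (z_pow_smul_comm i r m)⟩)))
    · rintro h r ⟨x, hx⟩ hr hrx
      obtain ⟨m, rfl⟩ := mem_filt.1 hx
      obtain ⟨w, hw⟩ := mem_filt.1 hrx
      exact mem_filt.2 (h r m hr ⟨w, hw.trans (z_pow_smul_comm i r m).symm⟩)
  have hΓ : ∀ i, Module.Free R (Gam2 R n M i) ↔ ∀ (r : R) (u : M), r ≠ 0 → z R n ^ (i + 1) • u = 0 →
      (∃ w : M, z R n ^ (i + 1) • w = z R n ^ i • (r • u)) → ∃ w : M, z R n ^ (i + 1) • w = z R n ^ i • u := by
    intro i
    haveI := hfΓ i
    rw [free_iff_tf (R := R), quot_isTorsionFree_iff]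
    constructor
    · intro h r u hr hu hm
      refine (mem_range_lamG2 u hu).1 (h r _ hr ?_)
      rw [← Submodule.Quotient.mk_smul]
      exact (mem_range_lamG2 (r • u) (by rw [mem_filt2, z_pow_smul_comm, hu, smul_zero])).2 hm
    · rintro h r x hr hrx
      obtain ⟨⟨u, hu⟩, rfl⟩ := Submodule.Quotient.mk_surjective _ x
      rw [← Submodule.Quotient.mk_smul] at hrx
      exact (mem_range_lamG2 u hu).2 (h r u hr hu ((mem_range_lamG2 (r • u) _).1 hrx))
  constructor
  · intro h i hi
    exact (hΓ i).2 fun r u hr _ hm => (hG i).1 (h i hi) r u hr hm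
  · intro h
    suffices H : ∀ d i, i + d = n → ∀ (r : R) (m : M), r ≠ 0 →
        (∃ w : M, z R n ^ (i + 1) • w = z R n ^ i • (r • m)) → ∃ w : M, z R n ^ (i + 1) • w = z R n ^ i • m from
      fun i hi => (hG i).2 (H (n - i) i (by omega))
    intro d
    induction d with
    | zero =>
      intro i hi r m _ _
      exact ⟨0, by rw [zns_eq_zero (by omega) m, smul_zero]⟩
    | succ d ih =>
      intro i hi r m hr hm
      obtain ⟨w, hw⟩ := hm
      obtain ⟨w', hw'⟩ := ih (i + 1) (by omega) r m hr ⟨w, by
        rw [pow_succ' _ (i + 1), mul_smul, hw, smul_smul, ← pow_succ']⟩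
      -- `u = m - z w'` is killed by `z^(i+1)`
      have hu : z R n ^ (i + 1) • (m - z R n • w') = 0 := by
        rw [smul_sub, smul_smul, ← pow_succ, hw', sub_self]
      obtain ⟨v, hv⟩ := (hΓ i).1 (h i (by omega)) r (m - z R n • w') hr hu ⟨w - r • w', by
        rw [smul_sub (z R n ^ (i + 1)), hw, z_pow_smul_comm (i + 1), z_pow_smul_comm i, z_pow_smul_comm i, ← smul_sub,
          smul_sub (z R n ^ i), smul_smul, ← pow_succ]⟩
      exact ⟨v + w', by rw [smul_add, hv, smul_sub, smul_smul, ← pow_succ, sub_add_cancel]⟩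

variable {M' : Type w} [AddCommGroup M'] [Module (Rn R n) M']

theorem exists_extend (hn : 1 ≤ n) [Module R M'] [IsScalarTower R (Rn R n) M'] (f : M' →ₗ[Rn R n] M)
    (ρ : M →ₗ[R] M') (hρ : ∀ x, ρ (f x) = x) (φ : M' →ₗ[Rn R n] Rn R n) :
    ∃ ψ : M →ₗ[Rn R n] Rn R n, ψ ∘ₗ f = φ := by
  refine ⟨(dualEquiv M hn).symm (dualEquiv M' hn φ ∘ₗ ρ), (dualEquiv M' hn).injective (LinearMap.ext fun x => ?_)⟩
  rw [dualEquiv_apply, LinearMap.comp_apply, ← dualEquiv_apply, AddEquiv.apply_symm_apply, LinearMap.comp_apply, hρ]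

theorem dualMap_surjective (hn : 1 ≤ n) {M'' : Type*} [AddCommGroup M''] [Module (Rn R n) M''] [Module R M'']
    [IsScalarTower R (Rn R n) M''] [Module.Finite (Rn R n) M''] [Module.IsTorsionFree R M'']
    (f : M' →ₗ[Rn R n] M) (g : M →ₗ[Rn R n] M'') (hf : Function.Injective f) (hex : Function.Exact f g)
    (hg : Function.Surjective g) : Function.Surjective f.dualMap := by
  letI : Module R M' := Module.compHom M' (algebraMap R (Rn R n))
  haveI : IsScalarTower R (Rn R n) M' := ⟨fun r a x => by
    rw [Algebra.smul_def (A := Rn R n), mul_smul]; rfl⟩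
  haveI := free_of_tf (R := R) (n := n) (M := M'')
  obtain ⟨s, hs⟩ := Module.projective_lifting_property (g.restrictScalars R) LinearMap.id hg
  have h : ∀ x, x - s (g x) ∈ LinearMap.range (f.restrictScalars R) := fun x => by
    refine (hex _).1 ?_
    rw [map_sub]
    exact sub_eq_zero.2 (LinearMap.congr_fun hs (g x)).symm
  let ρ : M →ₗ[R] M' := (LinearEquiv.ofInjective (f.restrictScalars R) hf).symm.toLinearMap ∘ₗ
    (LinearMap.id - s ∘ₗ g.restrictScalars R).codRestrict _ h
  intro φ
  obtain ⟨ψ, hψ⟩ := exists_extend hn f ρ (fun x => hf (by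
    have h1 := LinearEquiv.apply_symm_apply (LinearEquiv.ofInjective (f.restrictScalars R) hf) ⟨_, h (f x)⟩
    have h2 := congrArg Subtype.val h1
    refine Eq.trans h2 ?_
    show f x - s (g (f x)) = f x
    rw [hex.apply_apply_eq_zero, map_zero, sub_zero])) φ
  exact ⟨ψ, hψ⟩

theorem isReflexive_iff (hn : 1 ≤ n) [Module.Finite (Rn R n) M] :
    Module.IsReflexive (Rn R n) M ↔ Module.IsTorsionFree R M := by
  constructor
  · intro h
    refine (Module.isTorsionFree_iff_smul_eq_zero).2 fun r m hrm => ?_
    refine (em (r = 0)).imp_right fun hr => (Module.bijective_dual_eval (Rn R n) M).injective ?_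
    rw [map_zero]
    refine LinearMap.ext fun φ => coef_ext fun j => ?_
    rw [LinearMap.zero_apply, map_zero, Module.Dual.eval_apply]
    have h1 : coef R n j (φ (r • m)) = 0 := by rw [hrm, map_zero, map_zero]
    rw [← algebraMap_smul (Rn R n) r m, map_smul, algebraMap_smul, map_smul, smul_eq_mul, mul_eq_zero] at h1
    exact h1.resolve_left hr
  · intro h
    haveI : Module.Free R M := free_of_tf (R := R) (n := n) (M := M)
    haveI := finite_R (R := R) (n := n) (M := M)
    let e := dualEquiv (R := R) (n := n) M hn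
    refine ⟨⟨(injective_iff_map_eq_zero _).2 fun m hm => ?_, fun Φ => ?_⟩⟩
    · refine (Module.forall_dual_apply_eq_zero_iff R m).1 fun l => ?_
      have h1 := LinearMap.congr_fun hm (e.symm l)
      rw [Module.Dual.eval_apply, LinearMap.zero_apply] at h1
      calc l m = e (e.symm l) m := by rw [e.apply_symm_apply]
        _ = 0 := by rw [dualEquiv_apply, h1, map_zero]
    · let Φ' : Module.Dual R (Module.Dual R M) :=
        { toFun := fun l => top R n hn (Φ (e.symm l))
          map_add' := fun l l' => by simp only [map_add]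
          map_smul' := fun r l => by
            have h1 : e.symm (r • l) = algebraMap R (Rn R n) r • e.symm l := e.injective (by
              rw [e.apply_symm_apply, dualEquiv_smul, e.apply_symm_apply])
            simp only [h1, map_smul, algebraMap_smul, RingHom.id_apply] }
      obtain ⟨m, hm⟩ := (Module.bijective_dual_eval R M).surjective Φ'
      refine ⟨m, (dualEquiv (Module.Dual (Rn R n) M) hn).injective (LinearMap.ext fun φ => ?_)⟩
      rw [dualEquiv_apply, dualEquiv_apply, Module.Dual.eval_apply]
      have h1 := LinearMap.congr_fun hm (e φ)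
      rw [Module.Dual.eval_apply] at h1
      exact h1.trans (congrArg (fun x => top R n hn (Φ x)) (e.symm_apply_apply φ))

end MultCrvLib
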