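import Groth.Agent.MultCrvLib.Modules

/-! Kernels of minimal presentations of quasi-free modules. -/

set_option autoImplicit false

noncomputable section

namespace MultCrvLib

open MultCrv

universe u v

variable {R : Type u} [CommRing R] {n : ℕ}

variable (R n) in
/-- `A/(z^b) ≅ z^(n-b) A`. -/
def oiMap (b : ℕ) : Oi R n b →ₗ[Rn R n] Rn R n :=
  Submodule.liftQ (Ideal.span {z R n ^ b}) (LinearMap.mulLeft (Rn R n) (z R n ^ (n - b))) (by
    rintro x hx
    obtain ⟨c, rfl⟩ := Ideal.mem_span_singleton'.1 hx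
    rw [LinearMap.mem_ker, LinearMap.mulLeft_apply, mul_left_comm, ← pow_add, z_pow_eq_zero (by omega), mul_zero])

theorem oiMap_injective {b : ℕ} (hb : b ≤ n) : Function.Injective (oiMap R n b) := by
  rw [← LinearMap.ker_eq_bot]
  refine Submodule.ker_liftQ_eq_bot _ _ _ fun x hx => ?_
  rw [LinearMap.mem_ker, LinearMap.mulLeft_apply, z_pow_mul_eq_zero_iff (Nat.sub_le n b)] at hx
  rwa [show n - (n - b) = b by omega] at hx

variable (R n) in
/-- The componentwise quotient map. -/
def qMap {S : Type v} (a : S → ℕ) : (S → Rn R n) →ₗ[Rn R n] ((s : S) → Oi R n (a s)) :=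
  LinearMap.pi fun s => (Ideal.span {z R n ^ a s}).mkQ ∘ₗ LinearMap.proj s

variable (R n) in
/-- The kernel of the componentwise quotient map. -/
def kerQMap {S : Type v} (a : S → ℕ) (ha : ∀ s, a s ≤ n) :
    LinearMap.ker (qMap R n a) ≃ₗ[Rn R n] ((s : S) → Oi R n (n - a s)) := by
  refine ((LinearEquiv.ofInjective (LinearMap.pi fun s => oiMap R n (n - a s) ∘ₗ LinearMap.proj s) ?_).trans
    (LinearEquiv.ofEq _ _ ?_)).symm
  · intro x y h
    exact funext fun s => oiMap_injective (Nat.sub_le n (a s)) (congrFun h s)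
  · refine le_antisymm ?_ fun g hg => ?_
    · rintro _ ⟨x, rfl⟩
      refine LinearMap.mem_ker.2 (funext fun s => ?_)
      obtain ⟨c, hc⟩ := Submodule.Quotient.mk_surjective _ (x s)
      show Submodule.Quotient.mk (oiMap R n (n - a s) (x s)) = 0
      rw [← hc, Submodule.Quotient.mk_eq_zero]
      show z R n ^ (n - (n - a s)) * c ∈ Ideal.span {z R n ^ a s}
      rw [show n - (n - a s) = a s by have := ha s; omega]
      exact Ideal.mul_mem_right _ _ (Ideal.mem_span_singleton_self _)
    · have h : ∀ s, ∃ c, c * z R n ^ a s = g s := fun s =>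
        Ideal.mem_span_singleton'.1 ((Submodule.Quotient.mk_eq_zero _).1 (congrFun (LinearMap.mem_ker.1 hg) s))
      choose c hc using h
      refine ⟨fun s => Submodule.Quotient.mk (c s), funext fun s => ?_⟩
      show z R n ^ (n - (n - a s)) * c s = g s
      rw [show n - (n - a s) = a s by have := ha s; omega, mul_comm, hc]

/-- Products of quotients along an injection covering all nonzero factors. -/
def piReindex {S S' : Type v} (b : S → ℕ) (b' : S' → ℕ) (e : S' → S) (he : Function.Injective e)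
    (hb : ∀ s', b (e s') = b' s') (hz : ∀ s, s ∉ Set.range e → b s = 0) :
    ((s : S) → Oi R n (b s)) ≃ₗ[Rn R n] ((s' : S') → Oi R n (b' s')) := by
  refine LinearEquiv.ofBijective
    (LinearMap.pi fun s' => (Submodule.quotEquivOfEq _ _ (by rw [hb s'])).toLinearMap ∘ₗ LinearMap.proj (e s')) ⟨?_, ?_⟩
  · intro x y h
    funext s
    by_cases hs : s ∈ Set.range e
    · obtain ⟨s', rfl⟩ := hs
      exact (Submodule.quotEquivOfEq (Ideal.span {z R n ^ b (e s')}) (Ideal.span {z R n ^ b' s'})
        (by rw [hb s'])).injective (congrFun h s')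
    · have : Subsingleton (Oi R n (b s)) := by
        rw [Oi, hz s hs, pow_zero, Submodule.Quotient.subsingleton_iff]
        exact Ideal.span_singleton_one
      exact Subsingleton.elim _ _
  · intro y
    classical
    have hy : ∀ s', ∃ c, Submodule.Quotient.mk c = y s' := fun s' => Submodule.Quotient.mk_surjective _ (y s')
    choose c hc using hy
    let x : (s : S) → Oi R n (b s) := fun s => Submodule.Quotient.mk (Function.extend e c (fun _ => 0) s)
    refine ⟨x, funext fun s' => ?_⟩
    show Submodule.quotEquivOfEq (Ideal.span {z R n ^ b (e s')}) (Ideal.span {z R n ^ b' s'}) (by rw [hb s'])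
      (Submodule.Quotient.mk (Function.extend e c (fun _ => 0) (e s'))) = y s'
    rw [Submodule.quotEquivOfEq_mk, he.extend_apply, hc]

/-- Regrouping the factors. -/
def piSigma {m : Fin n → ℕ} : QFModel R n m ≃ₗ[Rn R n] ((s : Σ i : Fin n, Fin (m i)) → Oi R n (s.1.1 + 1)) :=
  (QFModel.equivPi R n m).trans
    (LinearEquiv.piCurry (Rn R n) fun (i : Fin n) (_ : Fin (m i)) => Oi R n (i.1 + 1)).symm

theorem isQuasiFree_ker (m : Fin n → ℕ) (M : Type v) [AddCommGroup M] [Module (Rn R n) M]
    (hM : IsQuasiFreeOfType R n M m) (r : ℕ) (φ : (Fin r → Rn R n) →ₗ[Rn R n] M) (hφ : Function.Surjective φ)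
    (hφz : ∀ f : Fin r → Rn R n, φ f ∈ filt R n M 1 → f ∈ filt R n (Fin r → Rn R n) 1) :
    IsQuasiFreeOfType R n (LinearMap.ker φ) (revType n m) := by
  classical
  obtain ⟨e⟩ := hM
  let S := Σ i : Fin n, Fin (m i)
  let a : S → ℕ := fun s => s.1.1 + 1
  let φ' := (e.trans piSigma).toLinearMap ∘ₗ φ
  have hker : LinearMap.ker φ' = LinearMap.ker φ := LinearEquiv.ker_comp _ _
  have hsur : ∀ s : S, ∃ f, φ' f = Pi.single s (Submodule.Quotient.mk 1) := fun s =>
    ((e.trans piSigma).surjective.comp hφ) _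
  choose f hf using hsur
  let ψ : (S → Rn R n) →ₗ[Rn R n] (Fin r → Rn R n) := Fintype.linearCombination (Rn R n) f
  have hφψ : φ' ∘ₗ ψ = qMap R n a := LinearMap.pi_ext fun s c => by
    rw [LinearMap.comp_apply, Fintype.linearCombination_apply_single, map_smul, hf]
    funext s'
    by_cases hs : s' = s
    · subst hs
      show c • (Pi.single s' (Submodule.Quotient.mk 1) : (t : S) → Oi R n (a t)) s' =
        Submodule.Quotient.mk ((Pi.single s' c : S → Rn R n) s')
      rw [Pi.single_eq_same, Pi.single_eq_same, ← Submodule.Quotient.mk_smul, smul_eq_mul, mul_one]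
    · show c • (Pi.single s (Submodule.Quotient.mk 1) : (t : S) → Oi R n (a t)) s' =
        Submodule.Quotient.mk ((Pi.single s c : S → Rn R n) s')
      rw [Pi.single_eq_of_ne hs, Pi.single_eq_of_ne hs, smul_zero, Submodule.Quotient.mk_zero]
  have hkz : ∀ g, φ g = 0 → ∃ w : Fin r → Rn R n, z R n • w = g := fun g hg => by
    obtain ⟨w, hw⟩ := mem_filt.1 (hφz g (by rw [hg]; exact zero_mem _))
    exact ⟨w, by rw [← hw, pow_one]⟩
  have hψs : Function.Surjective ψ := fun g => by
    refine LinearMap.mem_range.1 (le_range_of_le_range_add_z (LinearMap.range ψ) (fun v => ?_) g)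
    have hq : Function.Surjective (qMap R n a) := fun y => by
      choose c hc using fun s => Submodule.Quotient.mk_surjective _ (y s)
      exact ⟨c, funext hc⟩
    obtain ⟨w, hw⟩ := hq (φ' v)
    have h0 : φ (v - ψ w) = 0 := by
      refine (e.trans piSigma).injective ?_
      rw [map_zero]
      show φ' (v - ψ w) = 0
      rw [map_sub, ← LinearMap.comp_apply φ' ψ, hφψ, hw]
      exact sub_self (G := (s : S) → Oi R n (a s)) _
    obtain ⟨w', hw'⟩ := hkz _ h0
    exact ⟨ψ w, LinearMap.mem_range_self ψ w, w', by rw [hw', add_sub_cancel]⟩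
  have hψi : Function.Injective ψ := by
    obtain ⟨σ, hσ⟩ := Module.projective_lifting_property ψ LinearMap.id hψs
    let P : (S → Rn R n) →ₗ[Rn R n] (S → Rn R n) := LinearMap.id - σ ∘ₗ ψ
    have hP : ∀ x, ψ (P x) = 0 := fun x => by
      show ψ (x - σ (ψ x)) = 0
      rw [map_sub, sub_eq_zero]
      exact (LinearMap.congr_fun hσ (ψ x)).symm
    have hz : ∀ x, ψ x = 0 → ∃ y, ψ y = 0 ∧ z R n • y = x := fun x hx => by
      have hq : qMap R n a x = 0 := by rw [← hφψ, LinearMap.comp_apply, hx, map_zero]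
      have h : ∀ s, ∃ c, c * z R n ^ a s = x s := fun s =>
        Ideal.mem_span_singleton'.1 ((Submodule.Quotient.mk_eq_zero _).1 (congrFun hq s))
      choose c hc using h
      refine ⟨P fun s => c s * z R n ^ s.1.1, hP _, ?_⟩
      rw [← map_smul]
      have hx' : (z R n • fun s : S => c s * z R n ^ s.1.1) = x := funext fun s => by
        rw [Pi.smul_apply, smul_eq_mul, ← hc s, mul_left_comm, ← pow_succ']
      rw [hx']
      show x - σ (ψ x) = x
      rw [hx, map_zero, sub_zero]
    refine (injective_iff_map_eq_zero ψ).2 fun x hx => ?_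
    have key : ∀ k, ∃ y, ψ y = 0 ∧ z R n ^ k • y = x := fun k => by
      induction k with
      | zero => exact ⟨x, hx, by rw [pow_zero]; exact one_smul (Rn R n) x⟩
      | succ k ih =>
        obtain ⟨y, hy, rfl⟩ := ih
        obtain ⟨y', hy', rfl⟩ := hz y hy
        exact ⟨y', hy', by rw [smul_smul, ← pow_succ]⟩
    obtain ⟨y, -, hy⟩ := key n
    exact hy.symm.trans (zns_zero y)
  let Ψ := LinearEquiv.ofBijective ψ ⟨hψi, hψs⟩
  have hmap : Submodule.map (Ψ : (S → Rn R n) →ₗ[Rn R n] (Fin r → Rn R n)) (LinearMap.ker (qMap R n a)) =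
      LinearMap.ker φ := by
    rw [← hker, ← hφψ, LinearMap.ker_comp]
    exact Submodule.map_comap_eq_of_surjective hψs _
  let S' := Σ i : Fin n, Fin (revType n m i)
  have hrev : ∀ s : S', s.1.1 + 1 < n := fun s => by
    by_contra h
    have := s.2.2
    simp only [revType, dif_neg h] at this
    omega
  let e' : S' → S := fun s => ⟨⟨n - 2 - s.1.1, by have := hrev s; omega⟩, Fin.cast (by simp [revType, hrev s]) s.2⟩
  have he' : Function.Injective e' := by
    rintro ⟨i, t⟩ ⟨i', t'⟩ h
    have h1 := congrArg (fun s : S => (s.1 : ℕ)) h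
    have h2 := congrArg (fun s : S => (s.2 : ℕ)) h
    simp only [e'] at h1 h2
    have := hrev ⟨i, t⟩
    have := hrev ⟨i', t'⟩
    obtain rfl : i = i' := Fin.ext (by simp only at *; omega)
    obtain rfl : t = t' := Fin.ext h2
    rfl
  refine ⟨(LinearEquiv.ofEq _ _ hmap).symm ≪≫ₗ (Ψ.submoduleMap _).symm ≪≫ₗ
    kerQMap R n a (fun s => s.1.2) ≪≫ₗ
    piReindex (fun s => n - a s) (fun s' : S' => s'.1.1 + 1) e' he' (fun s' => ?_) (fun s hs => ?_) ≪≫ₗ piSigma.symm⟩
  · have := hrev s'
    show n - (n - 2 - s'.1.1 + 1) = s'.1.1 + 1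
    omega
  · obtain ⟨i, t⟩ := s
    by_contra h
    have h' : n - ((i : ℕ) + 1) ≠ 0 := h
    apply hs
    have hi : n - 2 - (i : ℕ) + 1 < n := by omega
    refine ⟨⟨⟨n - 2 - (i : ℕ), by omega⟩, Fin.cast ?_ t⟩, ?_⟩
    · simp only [revType, dif_pos hi]
      congr 1
      exact Fin.ext (by simp only; omega)
    · have hfst : (⟨n - 2 - (n - 2 - (i : ℕ)), by omega⟩ : Fin n) = i := Fin.ext (by simp only; omega)
      refine Sigma.ext hfst ((Fin.heq_ext_iff (congrArg m hfst)).2 ?_)
      rfl

end MultCrvLib
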